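import Groth.Agent.Lib.InvExt.Gen
import Groth.Agent.Lib.InvExt.UFD
import Groth.Agent.Lib.FlatClosure.Basic
import Mathlib

/-!
# Function fields along flat morphisms with integral fibres
-/

set_option autoImplicit false
set_option linter.all false
set_option backward.isDefEq.respectTransparency false

universe u

open CategoryTheory CategoryTheory.Limits AlgebraicGeometry TopologicalSpace
open GrothLib.InvExt (toK IsUnitAt fres)

noncomputable section

namespace GrothLib.PicPull

variable {X : Scheme.{u}} [IsIntegral X]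

theorem algebraMap_germ {x : X} {V : X.Opens} (hx : x ∈ V) (a : Γ(X, V)) :
    algebraMap (X.presheaf.stalk x) X.functionField (X.presheaf.germ V x hx a) = toK x hx a :=
  haveI : Nonempty V := ⟨⟨x, hx⟩⟩
  X.algebraMap_germ_eq_germToFunctionField hx a

theorem toK_add {V : X.Opens} {x : X} (hx : x ∈ V) (a b : Γ(X, V)) :
    toK x hx (a + b) = toK x hx a + toK x hx b :=
  haveI : Nonempty V := ⟨⟨x, hx⟩⟩
  map_add (X.germToFunctionField V).hom a b

theorem toK_mul {V : X.Opens} {x : X} (hx : x ∈ V) (a b : Γ(X, V)) :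
    toK x hx (a * b) = toK x hx a * toK x hx b :=
  haveI : Nonempty V := ⟨⟨x, hx⟩⟩
  map_mul (X.germToFunctionField V).hom a b

theorem toK_zero {V : X.Opens} {x : X} (hx : x ∈ V) : toK x hx (0 : Γ(X, V)) = 0 :=
  haveI : Nonempty V := ⟨⟨x, hx⟩⟩
  map_zero (X.germToFunctionField V).hom

theorem toK_one {V : X.Opens} {x : X} (hx : x ∈ V) : toK x hx (1 : Γ(X, V)) = 1 :=
  haveI : Nonempty V := ⟨⟨x, hx⟩⟩
  map_one (X.germToFunctionField V).hom

theorem isUnitAt_iff {x : X} {c : X.functionField} :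
    IsUnitAt x c ↔ ∃ u : (X.presheaf.stalk x)ˣ, algebraMap (X.presheaf.stalk x) X.functionField u = c := by
  constructor
  · rintro ⟨V, hx, a, ha, rfl⟩
    exact ⟨(ha.map (X.presheaf.germ V x hx).hom).unit, algebraMap_germ hx a⟩
  · rintro ⟨u, hu⟩
    exact InvExt.isUnitAt_of_stalk u.isUnit hu

theorem isUnitAt_of_isUnit {x : X} {V : X.Opens} (hx : x ∈ V) {a : Γ(X, V)} (ha : IsUnit a) :
    IsUnitAt x (toK x hx a) :=
  ⟨V, hx, a, ha, rfl⟩

theorem isOpen_isUnitAt (c : X.functionField) : IsOpen {x : X | IsUnitAt x c} :=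
  isOpen_iff_forall_mem_open.2 fun _ ⟨V, hx, a, ha, h⟩ => ⟨V, fun _ hy => ⟨V, hy, a, ha, h⟩, V.2, hx⟩

theorem _root_.GrothLib.InvExt.IsUnitAt.generize {x z : X} {c : X.functionField} (h : z ⤳ x) (hc : IsUnitAt x c) :
    IsUnitAt z c :=
  h.mem_open (isOpen_isUnitAt c) hc

variable {Y : Scheme.{u}} [IsIntegral Y] (φ : X ⟶ Y) (hη : φ (genericPoint X) = genericPoint Y)

/-- The map of function fields. -/
def funMap : Y.functionField →+* X.functionField :=
  ((Y.presheaf.stalkCongr (.of_eq hη.symm)).hom ≫ φ.stalkMap (genericPoint X)).hom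

theorem funMap_toK {U : Y.Opens} {x : X} (hx : φ x ∈ U) (s : Γ(Y, U)) :
    funMap φ hη (toK (φ x) hx s) = toK (V := φ ⁻¹ᵁ U) x hx (φ.app U s) := by
  have h1 : genericPoint Y ∈ U := ((genericPoint_spec Y).mem_open_set_iff U.2).mpr ⟨φ x, trivial, hx⟩
  show (φ.stalkMap (genericPoint X)).hom ((Y.presheaf.stalkCongr (.of_eq hη.symm)).hom.hom
    (Y.presheaf.germ U (genericPoint Y) h1 s)) = _
  rw [← CommRingCat.comp_apply (Y.presheaf.germ U (genericPoint Y) h1), TopCat.Presheaf.stalkCongr_hom,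
    TopCat.Presheaf.germ_stalkSpecializes, ← CommRingCat.comp_apply, φ.germ_stalkMap, CommRingCat.comp_apply]

theorem funMap_algebraMap {x : X} (a : Y.presheaf.stalk (φ x)) :
    funMap φ hη (algebraMap (Y.presheaf.stalk (φ x)) Y.functionField a) =
      algebraMap (X.presheaf.stalk x) X.functionField ((φ.stalkMap x).hom a) := by
  obtain ⟨U, hx, s, rfl⟩ := Y.presheaf.exists_germ_eq a
  rw [algebraMap_germ, funMap_toK, ← CommRingCat.comp_apply, φ.germ_stalkMap, CommRingCat.comp_apply,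
    algebraMap_germ]

theorem isUnitAt_funMap {x : X} {r : Y.functionField} (h : IsUnitAt (φ x) r) :
    IsUnitAt x (funMap φ hη r) := by
  rw [isUnitAt_iff] at *
  obtain ⟨u, rfl⟩ := h
  exact ⟨Units.map (φ.stalkMap x).hom.toMonoidHom u, (funMap_algebraMap φ hη _).symm⟩

/-- A rational function of the base is a unit where its pullback is, for flat morphisms. -/
theorem isUnitAt_of_funMap [Flat φ] {x : X} {r : Y.functionField}
    (h : IsUnitAt x (funMap φ hη r)) : IsUnitAt (φ x) r := by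
  letI := (φ.stalkMap x).hom.toAlgebra
  let A := Y.presheaf.stalk (φ x)
  let B := X.presheaf.stalk x
  haveI : Module.Flat A B := Flat.stalkMap φ x
  haveI : IsLocalHom (algebraMap A B) := φ.toLRSHom.prop x
  haveI : Module.FaithfullyFlat A B := Module.FaithfullyFlat.of_flat_of_isLocalHom
  rw [isUnitAt_iff] at h ⊢
  obtain ⟨w, hw⟩ := h
  obtain ⟨a, b, hb, rfl⟩ := IsFractionRing.div_surjective (A := A) r
  have hb0 : algebraMap A Y.functionField b ≠ 0 := IsFractionRing.to_map_ne_zero_of_mem_nonZeroDivisors hb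
  have hab : (φ.stalkMap x).hom a = (φ.stalkMap x).hom b * w := by
    refine IsFractionRing.injective B X.functionField ?_
    rw [map_mul, hw, ← funMap_algebraMap φ hη, ← funMap_algebraMap φ hη, map_div₀, ← mul_div_assoc,
      mul_div_cancel_left₀]
    exact (map_ne_zero _).2 hb0
  have hspan : Ideal.map (algebraMap A B) (Ideal.span {a}) = Ideal.map (algebraMap A B) (Ideal.span {b}) := by
    rw [Ideal.map_span, Ideal.map_span, Set.image_singleton, Set.image_singleton,
      Ideal.span_singleton_eq_span_singleton]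
    exact (show Associated ((φ.stalkMap x).hom b) ((φ.stalkMap x).hom a) from ⟨w, hab.symm⟩).symm
  have := congrArg (Ideal.comap (algebraMap A B)) hspan
  rw [Ideal.comap_map_eq_self_of_faithfullyFlat, Ideal.comap_map_eq_self_of_faithfullyFlat,
    Ideal.span_singleton_eq_span_singleton] at this
  obtain ⟨v, hv⟩ := this.symm
  refine ⟨v, ?_⟩
  rw [← hv, map_mul, mul_div_cancel_left₀ _ hb0]

omit [IsIntegral X] in
/-- An ideal of an affine open avoiding no point of the generic fibre meets the base. -/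
theorem exists_ne_zero_mem (φ : X ⟶ Y) {U : X.Opens} (hU : IsAffineOpen U) {V : Y.Opens}
    (hV : IsAffineOpen V) [Nonempty V] (e : U ≤ φ ⁻¹ᵁ V) (J : Ideal Γ(X, U))
    (h : ∀ (z : X) (hz : z ∈ U), φ z = genericPoint Y → ¬ J ≤ (hU.primeIdealOf ⟨z, hz⟩).asIdeal) :
    ∃ s : Γ(Y, V), s ≠ 0 ∧ (φ.appLE V U e).hom s ∈ J := by
  by_contra hne
  push Not at hne
  let T : Submonoid Γ(X, U) := (nonZeroDivisors Γ(Y, V)).map (φ.appLE V U e).hom
  obtain ⟨P, hP, hJP, hdis⟩ := Ideal.exists_le_prime_disjoint J T (Set.disjoint_left.2 fun r hr hrT => by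
    obtain ⟨s, hs, rfl⟩ := Submonoid.mem_map.1 hrT
    exact hne s (nonZeroDivisors.ne_zero hs) hr)
  let q : PrimeSpectrum Γ(X, U) := ⟨P, hP⟩
  have hmem : hU.fromSpec q ∈ U := (Set.ext_iff.1 hU.range_fromSpec _).1 (Set.mem_range_self (f := hU.fromSpec) q)
  have hq : hU.primeIdealOf ⟨hU.fromSpec q, hmem⟩ = q :=
    hU.fromSpec.isOpenEmbedding.injective (hU.fromSpec_primeIdealOf _)
  refine h (hU.fromSpec q) hmem ?_ (by rw [hq]; exact hJP)
  have hcomap : (Spec.map (φ.appLE V U e)) q = (⟨⊥, Ideal.isPrime_bot⟩ : PrimeSpectrum Γ(Y, V)) := by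
    refine PrimeSpectrum.ext (eq_bot_iff.2 fun s hs => ?_)
    by_contra hs0
    exact Set.disjoint_left.1 hdis hs (Submonoid.mem_map.2 ⟨s, mem_nonZeroDivisors_of_ne_zero hs0, rfl⟩)
  have h1 : φ (hU.fromSpec q) = hV.fromSpec (Spec.map (φ.appLE V U e) q) :=
    (congrArg (fun f => f q) (hV.SpecMap_appLE_fromSpec φ hU e)).symm
  rw [h1, hcomap]
  have h2 := hV.fromSpec_primeIdealOf ⟨genericPoint Y,
    ((genericPoint_spec Y).mem_open_set_iff V.2).mpr
      ⟨_, trivial, (Classical.arbitrary V).2⟩⟩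
  refine Eq.trans ?_ h2
  rw [hV.primeIdealOf_genericPoint, AlgebraicGeometry.genericPoint_eq_bot_of_affine]
  rfl

omit [IsIntegral X] in
/-- Stalk maps of the generic fibre are bijective. -/
theorem isIso_stalkMap_fiberι [Flat φ] (z : φ.fiber (genericPoint Y)) :
    IsIso ((φ.fiberι (genericPoint Y)).stalkMap z) := by
  haveI : Flat (φ.fiberι (genericPoint Y)) := by
    haveI := GrothLib.FlatClosure.flat_fromSpecResidueField_genericPoint (Y := Y)
    exact MorphismProperty.pullback_fst _ _ ‹_›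
  let i := φ.fiberι (genericPoint Y)
  letI := (i.stalkMap z).hom.toAlgebra
  haveI : Module.Flat (X.presheaf.stalk (i z)) ((φ.fiber (genericPoint Y)).presheaf.stalk z) :=
    Flat.stalkMap i z
  haveI : IsLocalHom (algebraMap (X.presheaf.stalk (i z)) ((φ.fiber (genericPoint Y)).presheaf.stalk z)) :=
    i.toLRSHom.prop z
  haveI : Module.FaithfullyFlat (X.presheaf.stalk (i z)) ((φ.fiber (genericPoint Y)).presheaf.stalk z) :=
    Module.FaithfullyFlat.of_flat_of_isLocalHom
  rw [ConcreteCategory.isIso_iff_bijective]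
  exact ⟨FaithfulSMul.algebraMap_injective _ _, SurjectiveOnStalks.stalkMap_surjective i z⟩

end GrothLib.PicPull
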