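import Groth.Agent.Lib.NormalSerre.AssPrincipal
import Groth.Agent.Lib.N2.MoriNagata
import Mathlib

/-!
# Principal ideals descend along flat maps with integral fibres over normal rings
-/

set_option autoImplicit false
set_option linter.all false

universe u

open TensorProduct IsLocalRing

noncomputable section

namespace GrothLib.PicPull

/-- If `g * c` is associated to a power of a regular prime, so are `g` and `c`. -/
theorem exists_eq_pow_mul_of_prime {R : Type u} [CommRing R] {π : R} (hπ : (Ideal.span {π}).IsPrime)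
    (hreg : ∀ x, π * x = 0 → x = 0) (e : ℕ) {g c w : R} (hw : IsUnit w) (h : g * c = π ^ e * w) :
    ∃ (i j : ℕ) (s t : R), IsUnit s ∧ IsUnit t ∧ i + j = e ∧ g = π ^ i * s ∧ c = π ^ j * t := by
  induction e generalizing g c with
  | zero =>
    rw [pow_zero, one_mul] at h
    exact ⟨0, 0, g, c, isUnit_of_mul_isUnit_left (h ▸ hw), isUnit_of_mul_isUnit_right (h ▸ hw), rfl,
      by simp, by simp⟩
  | succ e ih =>
    have hmem : g * c ∈ Ideal.span {π} := Ideal.mem_span_singleton'.2 ⟨π ^ e * w, by rw [h]; ring⟩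
    rcases hπ.mem_or_mem hmem with hg | hc
    · obtain ⟨g', rfl⟩ := Ideal.mem_span_singleton'.1 hg
      have h' : g' * c = π ^ e * w := sub_eq_zero.1 (hreg _ (by linear_combination h))
      obtain ⟨i, j, s, t, hs, ht, hij, rfl, rfl⟩ := ih h'
      exact ⟨i + 1, j, s, t, hs, ht, by omega, by ring, rfl⟩
    · obtain ⟨c', rfl⟩ := Ideal.mem_span_singleton'.1 hc
      have h' : g * c' = π ^ e * w := sub_eq_zero.1 (hreg _ (by linear_combination h))
      obtain ⟨i, j, s, t, hs, ht, hij, rfl, rfl⟩ := ih h'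
      exact ⟨i, j + 1, s, t, hs, ht, by omega, rfl, by ring⟩

/-- `b ⊗ φ 1 = 0` puts `b` in the extension of the kernel, for a flat algebra. -/
theorem mem_map_ker_of_tmul_eq_zero {A B M : Type u} [CommRing A] [CommRing B] [Algebra A B]
    [Module.Flat A B] [AddCommGroup M] [Module A M] (φ : A →ₗ[A] M) (b : B) (h : φ 1 ⊗ₜ[A] b = 0) :
    b ∈ Ideal.map (algebraMap A B) (LinearMap.ker φ) := by
  have hex : Function.Exact (LinearMap.ker φ).subtype φ := LinearMap.exact_subtype_ker_map φ
  obtain ⟨z, hz⟩ := (Module.Flat.rTensor_exact B hex (1 ⊗ₜ[A] b)).1 (by simpa using h)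
  suffices key : ∀ z : ↥(LinearMap.ker φ) ⊗[A] B,
      TensorProduct.lid A B ((LinearMap.ker φ).subtype.rTensor B z) ∈
        Ideal.map (algebraMap A B) (LinearMap.ker φ) by
    have := key z
    rw [hz] at this
    simpa using this
  intro z
  induction z using TensorProduct.induction_on with
  | zero => simp
  | tmul a b => simpa [Algebra.smul_def] using Ideal.mul_mem_right _ _ (Ideal.mem_map_of_mem _ a.2)
  | add x y hx hy => rw [map_add, map_add]; exact Ideal.add_mem _ hx hy

section

variable {A B : Type u} [CommRing A] [CommRing B] [Algebra A B] [Module.Flat A B]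

/-- The factorisation over one height one prime. -/
theorem exists_local_data [IsDomain A] [IsNoetherianRing A] [IsIntegrallyClosed A]
    (hinj : Function.Injective (algebraMap A B)) (p : Ideal A) [p.IsPrime] (hp : p.height = 1)
    (hfib : IsDomain (p.ResidueField ⊗[A] B)) {g c : B} {a₀ : A} (ha₀ : a₀ ≠ 0)
    (h : g * c = algebraMap A B a₀) :
    ∃ (ϖ : Localization.AtPrime p) (i j : ℕ) (v s t : Localization.AtPrime p ⊗[A] B), IsUnit v ∧
      IsUnit s ∧ IsUnit t ∧ (1 : Localization.AtPrime p) ⊗ₜ[A] g = (ϖ ⊗ₜ[A] (1 : B)) ^ i * s ∧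
      (1 : Localization.AtPrime p) ⊗ₜ[A] c = (ϖ ⊗ₜ[A] (1 : B)) ^ j * t ∧
      algebraMap A (Localization.AtPrime p) a₀ ⊗ₜ[A] (1 : B) = (ϖ ⊗ₜ[A] (1 : B)) ^ (i + j) * v := by
  let L := Localization.AtPrime p
  haveI : IsDomain L := IsLocalization.isDomain_localization p.primeCompl_le_nonZeroDivisors
  haveI : IsDiscreteValuationRing L := GrothLib.MoriNagata.isDiscreteValuationRing_of_height_one p hp
  obtain ⟨ϖ, hϖ⟩ := IsDiscreteValuationRing.exists_irreducible L
  have hL0 : algebraMap A L a₀ ≠ 0 := fun e => ha₀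
    (IsLocalization.injective L p.primeCompl_le_nonZeroDivisors (e.trans (map_zero _).symm))
  obtain ⟨e, u, hu⟩ := IsDiscreteValuationRing.eq_unit_mul_pow_irreducible hL0 hϖ
  let ι : L →ₐ[A] L ⊗[A] B := Algebra.TensorProduct.includeLeft
  have hprime : (Ideal.span {ι ϖ}).IsPrime := by
    let r : L →ₐ[A] p.ResidueField := IsScalarTower.toAlgHom A L p.ResidueField
    have hr : Function.Surjective r := IsLocalRing.residue_surjective
    have hker : RingHom.ker (Algebra.TensorProduct.map r (AlgHom.id A B)) = Ideal.span {ι ϖ} := by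
      rw [Algebra.TensorProduct.rTensor_ker r hr,
        show RingHom.ker r = maximalIdeal L from IsLocalRing.ker_residue, hϖ.maximalIdeal_eq,
        Ideal.map_span, Set.image_singleton]
    rw [← hker]
    exact RingHom.ker_isPrime _
  have hreg : ∀ x, ι ϖ * x = 0 → x = 0 := fun x hx => by
    have hs : Function.Injective (LinearMap.rTensor B ((LinearMap.lsmul L L ϖ).restrictScalars A)) :=
      Module.Flat.rTensor_preserves_injective_linearMap _ fun a b hab => mul_left_cancel₀ hϖ.ne_zero hab
    refine hs (a₁ := x) (a₂ := 0) ?_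
    rw [map_zero, ← hx]
    clear hx
    induction x using TensorProduct.induction_on with
    | zero => simp
    | tmul a b => simp [ι]
    | add x y hx hy => rw [map_add, mul_add, hx, hy]
  have heq : (1 : L) ⊗ₜ[A] g * (1 : L) ⊗ₜ[A] c = ι ϖ ^ e * ι (u : L) := by
    rw [Algebra.TensorProduct.tmul_mul_tmul, one_mul, h, ← map_pow, ← map_mul, mul_comm (ϖ ^ e), ← hu]
    show (1 : L) ⊗ₜ[A] algebraMap A B a₀ = algebraMap A L a₀ ⊗ₜ[A] (1 : B)
    rw [Algebra.algebraMap_eq_smul_one, Algebra.algebraMap_eq_smul_one, TensorProduct.smul_tmul]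
  obtain ⟨i, j, s, t, hs, ht, hij, hg, hc⟩ :=
    exists_eq_pow_mul_of_prime hprime hreg e ((u.isUnit).map ι) heq
  refine ⟨ϖ, i, j, ι (u : L), s, t, (u.isUnit).map ι, hs, ht, hg, hc, ?_⟩
  show ι (algebraMap A L a₀) = ι ϖ ^ (i + j) * ι (u : L)
  rw [hij, hu, map_mul, map_pow, mul_comm]

/-- **Descent of principal ideals.** For a local flat map from a normal Noetherian local domain with
integral fibres in height one, a factor of an element of the base is associated to one. -/
theorem exists_associated_algebraMap [IsDomain A] [IsNoetherianRing A] [IsIntegrallyClosed A]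
    [IsLocalRing A] [IsLocalRing B] [IsLocalHom (algebraMap A B)] [IsDomain B]
    (hfib : ∀ (p : Ideal A) [p.IsPrime], p.height = 1 → IsDomain (p.ResidueField ⊗[A] B))
    {g c : B} {a₀ : A} (ha₀ : a₀ ≠ 0) (h : g * c = algebraMap A B a₀) :
    ∃ a : A, Associated (algebraMap A B a) g := by
  classical
  haveI : Module.FaithfullyFlat A B := Module.FaithfullyFlat.of_flat_of_isLocalHom
  have hinj : Function.Injective (algebraMap A B) := FaithfulSMul.algebraMap_injective A B
  have hg0 : g ≠ 0 := by
    rintro rfl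
    rw [zero_mul] at h
    exact ha₀ (hinj (h.symm.trans (map_zero _).symm))
  have hc0 : c ≠ 0 := by
    rintro rfl
    rw [mul_zero] at h
    exact ha₀ (hinj (h.symm.trans (map_zero _).symm))
  have hfin : (associatedPrimes A (A ⧸ Ideal.span {a₀})).Finite := associatedPrimes.finite A _
  let S := {p : PrimeSpectrum A // p.asIdeal ∈ associatedPrimes A (A ⧸ Ideal.span {a₀})}
  haveI : Finite S := by
    haveI := hfin.to_subtype
    refine Finite.of_injective (fun p : S => (⟨p.1.asIdeal, p.2⟩ : associatedPrimes A (A ⧸ Ideal.span {a₀})))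
      fun p q e => ?_
    exact Subtype.ext (PrimeSpectrum.ext (congrArg Subtype.val e))
  haveI : Fintype S := Fintype.ofFinite S
  choose ϖ i j v s t hv hs ht hg hc ha using fun p : S => exists_local_data hinj p.1.asIdeal
    (GrothLib.NormalSerre.height_eq_one_of_mem_associatedPrimes ha₀ p.2)
    (hfib _ (GrothLib.NormalSerre.height_eq_one_of_mem_associatedPrimes ha₀ p.2)) ha₀ h
  -- the ideal of the base
  let M : S → Type u := fun p =>
    Localization.AtPrime p.1.asIdeal ⧸ (Ideal.span {ϖ p ^ i p}).restrictScalars A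
  let φ : A →ₗ[A] ∀ p, M p := LinearMap.pi fun p =>
    (Submodule.mkQ _) ∘ₗ Algebra.linearMap A (Localization.AtPrime p.1.asIdeal)
  let M' : S → Type u := fun p => Localization.AtPrime p.1.asIdeal ⧸
    (Ideal.span {algebraMap A (Localization.AtPrime p.1.asIdeal) a₀}).restrictScalars A
  let ψ : A →ₗ[A] ∀ p, M' p := LinearMap.pi fun p =>
    (Submodule.mkQ _) ∘ₗ Algebra.linearMap A (Localization.AtPrime p.1.asIdeal)
  have hzero : ∀ (p : S) (r : Localization.AtPrime p.1.asIdeal)
      (z : Localization.AtPrime p.1.asIdeal ⊗[A] B),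
      LinearMap.rTensor B (Submodule.mkQ ((Ideal.span {r}).restrictScalars A)) (r ⊗ₜ[A] (1 : B) * z) = 0 := by
    intro p r z
    induction z using TensorProduct.induction_on with
    | zero => simp
    | tmul a b =>
      rw [Algebra.TensorProduct.tmul_mul_tmul, LinearMap.rTensor_tmul,
        show Submodule.mkQ ((Ideal.span {r}).restrictScalars A) (r * a) = 0 from
          (Submodule.Quotient.mk_eq_zero _).2 (Ideal.mul_mem_right _ _ (Ideal.mem_span_singleton_self r)),
        TensorProduct.zero_tmul]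
    | add x y hx hy => rw [mul_add, map_add, hx, hy, add_zero]
  have hI : g ∈ Ideal.map (algebraMap A B) (LinearMap.ker φ) := by
    refine mem_map_ker_of_tmul_eq_zero φ g ?_
    refine (TensorProduct.piLeft A B M).injective (funext fun p => ?_)
    simp only [map_zero, Pi.zero_apply]
    show (Submodule.mkQ _ (algebraMap A _ (1 : A))) ⊗ₜ[A] g = 0
    rw [map_one, ← LinearMap.rTensor_tmul, hg p, Algebra.TensorProduct.tmul_pow, one_pow]
    exact hzero p _ _
  -- every element of it is a multiple of `g`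
  have hdiv : ∀ a ∈ LinearMap.ker φ, ∃ d, algebraMap A B a = g * d := by
    intro a hak
    have hψ : algebraMap A B a * c ∈ Ideal.map (algebraMap A B) (LinearMap.ker ψ) := by
      refine mem_map_ker_of_tmul_eq_zero ψ _ ?_
      refine (TensorProduct.piLeft A B M').injective (funext fun p => ?_)
      simp only [map_zero, Pi.zero_apply]
      show (Submodule.mkQ _ (algebraMap A _ (1 : A))) ⊗ₜ[A] _ = 0
      rw [map_one, ← LinearMap.rTensor_tmul]
      obtain ⟨α, hα⟩ := Ideal.mem_span_singleton'.1
        ((Submodule.Quotient.mk_eq_zero _).1 (congrFun (LinearMap.mem_ker.1 hak) p) :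
          algebraMap A _ a ∈ Ideal.span {ϖ p ^ i p})
      obtain ⟨w, hw⟩ := (hv p).exists_left_inv
      have : (1 : Localization.AtPrime p.1.asIdeal) ⊗ₜ[A] (algebraMap A B a * c) =
          algebraMap A (Localization.AtPrime p.1.asIdeal) a₀ ⊗ₜ[A] (1 : B) * (w * (α ⊗ₜ[A] (1 : B)) * t p) := by
        have h1 : (1 : Localization.AtPrime p.1.asIdeal) ⊗ₜ[A] algebraMap A B a =
            (α * ϖ p ^ i p) ⊗ₜ[A] (1 : B) := by
          rw [hα, Algebra.algebraMap_eq_smul_one, Algebra.algebraMap_eq_smul_one, TensorProduct.smul_tmul]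
        rw [← one_mul (1 : Localization.AtPrime p.1.asIdeal), ← Algebra.TensorProduct.tmul_mul_tmul, h1,
          hc p, ha p, ← one_mul (1 : B), ← Algebra.TensorProduct.tmul_mul_tmul,
          one_mul, show (ϖ p ^ i p) ⊗ₜ[A] (1 : B) = (ϖ p ⊗ₜ[A] (1 : B)) ^ i p from by
            rw [Algebra.TensorProduct.tmul_pow, one_pow]]
        linear_combination (-(α ⊗ₜ[A] (1 : B)) * (ϖ p ⊗ₜ[A] (1 : B)) ^ (i p + j p) * t p) * hw
      rw [this]
      exact hzero p _ _
    have hker : LinearMap.ker ψ ≤ Ideal.span {a₀} := by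
      intro r hr
      by_contra hr0
      obtain ⟨P, hP, hle⟩ := exists_le_isAssociatedPrime_of_isNoetherianRing A (Ideal.Quotient.mk (Ideal.span {a₀}) r)
        (fun e => hr0 (Ideal.Quotient.eq_zero_iff_mem.1 e))
      let p : S := ⟨⟨P, hP.isPrime⟩, hP⟩
      haveI : p.1.asIdeal.IsPrime := hP.isPrime
      obtain ⟨α, hα⟩ := Ideal.mem_span_singleton'.1
        ((Submodule.Quotient.mk_eq_zero _).1 (congrFun (LinearMap.mem_ker.1 hr) p) :
          algebraMap A (Localization.AtPrime p.1.asIdeal) r ∈ Ideal.span {algebraMap A _ a₀})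
      obtain ⟨⟨b, q⟩, hbq⟩ := IsLocalization.surj p.1.asIdeal.primeCompl α
      refine q.2 (hle ?_)
      rw [Submodule.mem_colon_singleton, Submodule.mem_bot, Algebra.smul_def, Ideal.Quotient.algebraMap_eq,
        ← map_mul, Ideal.Quotient.eq_zero_iff_mem, Ideal.mem_span_singleton']
      refine ⟨b, IsLocalization.injective (Localization.AtPrime p.1.asIdeal)
        p.1.asIdeal.primeCompl_le_nonZeroDivisors ?_⟩
      rw [map_mul, map_mul, ← hbq, ← hα]
      ring
    have := Ideal.map_mono (f := algebraMap A B) hker hψ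
    rw [Ideal.map_span, Set.image_singleton] at this
    obtain ⟨d, hd⟩ := Ideal.mem_span_singleton'.1 this
    exact ⟨d, mul_right_cancel₀ hc0 (by rw [← hd, ← h]; ring)⟩
  -- one of them is associated to `g`
  by_contra hne
  push_neg at hne
  have hle : Ideal.map (algebraMap A B) (LinearMap.ker φ) ≤ Ideal.span {g} * maximalIdeal B := by
    rw [Ideal.map_le_iff_le_comap]
    intro a hak
    obtain ⟨d, hd⟩ := hdiv a hak
    rw [Ideal.mem_comap, hd]
    refine Ideal.mul_mem_mul (Ideal.mem_span_singleton_self g) ?_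
    rw [mem_maximalIdeal, mem_nonunits_iff]
    intro hu
    exact hne a (Associated.symm ⟨hu.unit, by rw [hd]; rfl⟩)
  obtain ⟨m, hm, hgm⟩ := Ideal.mem_span_singleton_mul.1 (hle hI)
  exact hm (by
    have : m = 1 := mul_left_cancel₀ hg0 (hgm.trans (mul_one g).symm)
    rw [this]; exact isUnit_one)

end

end GrothLib.PicPull
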