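import Groth.Agent.Lib.FFDesc.Basic
import Mathlib

/-!
# Local rings of morphisms with integral fibres
-/

set_option autoImplicit false
set_option linter.all false
set_option backward.isDefEq.respectTransparency false

universe u

open CategoryTheory CategoryTheory.Limits AlgebraicGeometry TopologicalSpace TensorProduct

noncomputable section

namespace GrothLib.PicPull

/-- The point-stalk at `x` of an integral fibre is a domain. -/
theorem isDomain_residue_tensor {X Y : Scheme.{u}} (φ : X ⟶ Y) [Flat φ]
    (hfib : ∀ y : Y, IsIntegral (φ.fiber y)) (x : X) :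
    letI := (φ.stalkMap x).hom.toAlgebra
    ∀ (p : Ideal (Y.presheaf.stalk (φ x))) [p.IsPrime],
      IsDomain (p.ResidueField ⊗[Y.presheaf.stalk (φ x)] X.presheaf.stalk x) := by
  letI := (φ.stalkMap x).hom.toAlgebra
  intro p hp
  let A := Y.presheaf.stalk (φ x)
  let B := X.presheaf.stalk x
  haveI : Module.Flat A B := Flat.stalkMap φ x
  haveI : IsLocalHom (algebraMap A B) := φ.toLRSHom.prop x
  haveI : Module.FaithfullyFlat A B := Module.FaithfullyFlat.of_flat_of_isLocalHom
  let K := p.ResidueField
  let a : Spec (CommRingCat.of K) ⟶ Spec A := Spec.map (CommRingCat.ofHom (algebraMap A K))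
  let b : Spec B ⟶ Spec A := Spec.map (φ.stalkMap x)
  let g : Spec (CommRingCat.of K) ⟶ Y := a ≫ Y.fromSpecStalk (φ x)
  haveI : IsPreimmersion a := by
    rw [show a = Spec.map (CommRingCat.ofHom (algebraMap A K)) from rfl]
    have h1 : algebraMap A K = (algebraMap (Localization.AtPrime p) K).comp (algebraMap A (Localization.AtPrime p)) :=
      IsScalarTower.algebraMap_eq _ _ _
    rw [h1, CommRingCat.ofHom_comp, Spec.map_comp]
    haveI : IsClosedImmersion (Spec.map (CommRingCat.ofHom (algebraMap (Localization.AtPrime p) K))) :=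
      IsClosedImmersion.spec_of_surjective _ IsLocalRing.residue_surjective
    haveI : IsPreimmersion (Spec.map (CommRingCat.ofHom (algebraMap A (Localization.AtPrime p)))) :=
      IsPreimmersion.of_isLocalization p.primeCompl
    infer_instance
  haveI : IsPreimmersion g := IsPreimmersion.comp _ _
  let y := g (IsLocalRing.closedPoint K)
  let ψ := Y.descResidueField (Scheme.stalkClosedPointTo g)
  let e : Spec (CommRingCat.of K) ⟶ Spec (Y.residueField y) := Spec.map ψ
  have he : e ≫ Y.fromSpecResidueField y = g :=
    Scheme.descResidueField_stalkClosedPointTo_fromSpecResidueField _ Y g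
  haveI : IsPreimmersion (e ≫ Y.fromSpecResidueField y) := by rw [he]; infer_instance
  haveI : IsPreimmersion e := IsPreimmersion.of_comp e (Y.fromSpecResidueField y)
  haveI : IsClosedImmersion e := IsClosedImmersion.of_isPreimmersion e
    ((Set.toFinite _).isClosed : IsClosed (Set.range e))
  haveI : IsIso e := by
    haveI : IsIso ψ := by
      rw [ConcreteCategory.isIso_iff_bijective]
      refine ⟨RingHom.injective _, ?_⟩
      have h := (IsClosedImmersion.isAffine_surjective_of_isAffine e).2
      intro k
      obtain ⟨r, hr⟩ := h ((Scheme.ΓSpecIso (CommRingCat.of K)).inv k)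
      refine ⟨(Scheme.ΓSpecIso (Y.residueField y)).hom r, ?_⟩
      have hn : e.appTop ≫ (Scheme.ΓSpecIso (CommRingCat.of K)).hom =
          (Scheme.ΓSpecIso (Y.residueField y)).hom ≫ ψ := Scheme.ΓSpecIso_naturality ψ
      have := congrArg (fun f => f.hom r) hn
      simp only [CommRingCat.hom_comp, RingHom.comp_apply] at this
      rw [← this, hr]
      exact congrArg (fun f => f.hom k) (Scheme.ΓSpecIso (CommRingCat.of K)).inv_hom_id
    infer_instance
  -- the fibre through `g`
  let Z := pullback φ g
  let eZ : Z ⟶ φ.fiber y := pullback.map φ g φ (Y.fromSpecResidueField y) (𝟙 X) e (𝟙 Y) (by simp) (by simp [he])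
  haveI : IsIso eZ := by dsimp only [eZ]; infer_instance
  haveI := hfib y
  haveI hZ : IsIntegral Z := IsIntegral.of_isIso (inv eZ)
  -- the fibre of the local scheme
  let F := pullback b a
  have hF : IsPullback (pullback.fst b a) (pullback.snd b a) (X.fromSpecStalk x ≫ φ) g := by
    have h1 : IsPullback (pullback.fst b a) (pullback.snd b a) (b ≫ Y.fromSpecStalk (φ x)) g :=
      IsPullback.of_isLimit' ⟨by simp only [g]; rw [pullback.condition_assoc]⟩
        (pullbackIsPullbackOfCompMono b a (Y.fromSpecStalk (φ x)))
    rwa [show b ≫ Y.fromSpecStalk (φ x) = X.fromSpecStalk x ≫ φ from Scheme.SpecMap_stalkMap_fromSpecStalk φ] at h1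
  let l : F ⟶ Z := pullback.lift (pullback.fst b a ≫ X.fromSpecStalk x) (pullback.snd b a)
    (by rw [Category.assoc]; exact hF.w)
  have hl : IsPullback (pullback.fst b a) l (X.fromSpecStalk x) (pullback.fst φ g) :=
    IsPullback.of_bot (v₂₁ := pullback.snd φ g) (by rw [pullback.lift_snd]; exact hF)
      (pullback.lift_fst _ _ _).symm (IsPullback.of_hasPullback φ g)
  haveI : IsPreimmersion l := MorphismProperty.of_isPullback hl (inferInstance : IsPreimmersion (X.fromSpecStalk x))
  haveI : Flat (X.fromSpecStalk x) := GrothLib.FFDesc.flat_fromSpecStalk' X x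
  haveI : Flat l := MorphismProperty.of_isPullback hl (inferInstance : Flat (X.fromSpecStalk x))
  haveI : Nonempty F := by
    obtain ⟨q, hq⟩ := PrimeSpectrum.comap_surjective_of_faithfullyFlat (A := A) (B := B) ⟨p, hp⟩
    have ha : a (IsLocalRing.closedPoint K) = (⟨p, hp⟩ : PrimeSpectrum A) :=
      PrimeSpectrum.ext (by
        show (IsLocalRing.maximalIdeal K).comap (algebraMap A K) = p
        rw [IsLocalRing.maximalIdeal_eq_bot, ← RingHom.ker_eq_comap_bot, Ideal.ker_algebraMap_residueField])
    obtain ⟨z, -, -⟩ := Scheme.Pullback.exists_preimage_pullback (f := b) (g := a) q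
      (IsLocalRing.closedPoint K) (hq.trans ha.symm)
    exact ⟨z⟩
  haveI : IsReduced F := by
    haveI : ∀ w, _root_.IsReduced (F.presheaf.stalk w) := fun w => by
      letI := (l.stalkMap w).hom.toAlgebra
      haveI : Module.Flat (Z.presheaf.stalk (l w)) (F.presheaf.stalk w) := Flat.stalkMap l w
      haveI : IsLocalHom (algebraMap (Z.presheaf.stalk (l w)) (F.presheaf.stalk w)) := l.toLRSHom.prop w
      haveI : Module.FaithfullyFlat (Z.presheaf.stalk (l w)) (F.presheaf.stalk w) :=
        Module.FaithfullyFlat.of_flat_of_isLocalHom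
      exact isReduced_of_injective
        (RingEquiv.ofBijective (l.stalkMap w).hom ⟨FaithfulSMul.algebraMap_injective (Z.presheaf.stalk (l w))
          (F.presheaf.stalk w), SurjectiveOnStalks.stalkMap_surjective l w⟩).symm (RingEquiv.injective _)
    exact isReduced_of_isReduced_stalk F
  have hrange : Set.range l = (pullback.fst φ g) ⁻¹' Set.range (X.fromSpecStalk x) := by
    ext z
    constructor
    · rintro ⟨w, rfl⟩
      exact ⟨pullback.fst b a w, (congrArg (fun f => f w) (hl.w)).trans rfl⟩
    · rintro ⟨u, hu⟩
      obtain ⟨w, -, hw⟩ := Scheme.Pullback.exists_preimage_pullback (f := X.fromSpecStalk x)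
        (g := pullback.fst φ g) u z hu
      refine ⟨hl.isoPullback.inv w, ?_⟩
      rw [← hw, ← hl.isoPullback_inv_snd]
      rfl
  haveI : IrreducibleSpace F := by
    obtain ⟨w₀⟩ := ‹Nonempty F›
    obtain ⟨w, hw⟩ : genericPoint Z ∈ Set.range l := by
      rw [hrange, Set.mem_preimage, Scheme.range_fromSpecStalk]
      have h0 : pullback.fst φ g (l w₀) ∈ Set.range (X.fromSpecStalk x) := by
        have := Set.mem_range_self (f := l) w₀
        rw [hrange] at this
        exact this
      rw [Scheme.range_fromSpecStalk] at h0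
      exact ((genericPoint_specializes (l w₀)).map (pullback.fst φ g).continuous).trans h0
    have hdense : closure ({w} : Set F) = Set.univ :=
      Set.eq_univ_of_forall fun v => specializes_iff_mem_closure.1
        (l.isEmbedding.isInducing.specializes_iff.1 (hw ▸ genericPoint_specializes (l v)))
    rw [irreducibleSpace_def]
    simpa only [hdense] using! (isIrreducible_singleton (x := w)).closure
  haveI : IsIntegral F := isIntegral_of_irreducibleSpace_of_isReduced F
  have eF : F ≅ Spec (CommRingCat.of (K ⊗[A] B)) := pullbackSymmetry _ _ ≪≫ pullbackSpecIso A K B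
  haveI : IsIntegral (Spec (CommRingCat.of (K ⊗[A] B))) := IsIntegral.of_isIso eF.hom
  exact (affine_isIntegral_iff (CommRingCat.of (K ⊗[A] B))).1 inferInstance

end GrothLib.PicPull
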