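import Groth.Agent.Lib.PicPull.Alg
import Groth.Agent.Lib.PicPull.Fiber
import Groth.Agent.Lib.PicPull.FunctionField
import Groth.Agent.Lib.Ample.CocPullback
import Groth.Agent.Lib.Ample.Finite
import Groth.Agent.Lib.PicCoc26.Basic
import Mathlib

/-!
# Invertible modules trivial on the generic fibre come from a normal base

`φ` flat with integral fibres over an integral normal base: an invertible module which is trivial on
the generic fibre is a pullback.
-/

set_option autoImplicit false
set_option linter.all false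
set_option backward.isDefEq.respectTransparency false

universe u

open CategoryTheory CategoryTheory.Limits AlgebraicGeometry TopologicalSpace Opposite
open GrothLib.Ample (res Cocycle res_res res_self)
open GrothLib.InvExt (toK IsUnitAt IsGen mres fres toK_fres toK_injective)

noncomputable section

namespace GrothLib.PicPull

variable {X Y : Scheme.{u}} [IsIntegral Y] (φ : X ⟶ Y) [Flat φ]
  (hfib : ∀ y : Y, IsIntegral (φ.fiber y))

include hfib in
theorem surjective_of_fibres : Function.Surjective φ := fun y => by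
  haveI := hfib y
  obtain ⟨z⟩ := (inferInstance : Nonempty (φ.fiber y))
  exact ⟨φ.fiberι y z, by
    have := Set.mem_range_self (f := φ.fiberι y) z
    rw [Scheme.Hom.range_fiberι] at this
    exact this⟩

include hfib in
/-- Any two points over one point of the base have a common generisation over it. -/
theorem exists_common_generization (y : Y) :
    ∃ ζ : X, φ ζ = y ∧ ∀ z : X, φ z = y → ζ ⤳ z := by
  haveI := hfib y
  refine ⟨φ.fiberι y (genericPoint _), ?_, fun z hz => ?_⟩
  · have := Set.mem_range_self (f := φ.fiberι y) (genericPoint _)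
    rw [Scheme.Hom.range_fiberι] at this
    exact this
  · obtain ⟨w, rfl⟩ : z ∈ Set.range (φ.fiberι y) := by rw [Scheme.Hom.range_fiberι]; exact hz
    exact (genericPoint_specializes w).map (φ.fiberι y).continuous

include hfib in
theorem isIntegral_of_fibres : IsIntegral X := by
  obtain ⟨ξ, hξ, hgen⟩ := exists_common_generization φ hfib (genericPoint Y)
  have hdense : ∀ x : X, ξ ⤳ x := fun x => by
    obtain ⟨z, hz, hφz⟩ := Flat.generalizingMap φ (genericPoint_specializes (φ x))
    exact (hgen z hφz).trans hz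
  haveI : IrreducibleSpace X := by
    rw [irreducibleSpace_def]
    have h : closure ({ξ} : Set X) = Set.univ :=
      Set.eq_univ_of_forall fun x => specializes_iff_mem_closure.1 (hdense x)
    simpa only [h] using! (isIrreducible_singleton (x := ξ)).closure
  haveI : IsReduced X := by
    refine @isReduced_of_isReduced_stalk X fun x => ⟨fun b hb => ?_⟩
    obtain ⟨_, ⟨V, hV, rfl⟩, hxV, -⟩ :=
      Y.isBasis_affineOpens.exists_subset_of_mem_open (Set.mem_univ (φ x)) isOpen_univ
    haveI : Nonempty V := ⟨⟨φ x, hxV⟩⟩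
    obtain ⟨U₀, hx₀, r₀, rfl⟩ := X.presheaf.exists_germ_eq b
    obtain ⟨N, hN⟩ := hb
    rw [← map_pow, ← map_zero (X.presheaf.germ U₀ x hx₀).hom] at hN
    obtain ⟨T, hxT, i₁, i₂, hT⟩ := X.presheaf.germ_eq x hx₀ hx₀ _ _ hN
    obtain ⟨U, hU, hxU, hUle⟩ := exists_isAffineOpen_mem_and_subset (x := x) (U := T ⊓ φ ⁻¹ᵁ V) ⟨hxT, hxV⟩
    have hUT : U ≤ U₀ := (le_inf_iff.1 hUle).1.trans i₁.le
    let r := X.presheaf.map (homOfLE hUT).op r₀
    have hr : r ^ N = 0 := by
      have h' := congrArg (X.presheaf.map (homOfLE (le_inf_iff.1 hUle).1).op) hT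
      simp only [map_zero] at h'
      rw [← CommRingCat.comp_apply, ← X.presheaf.map_comp] at h'
      rw [← map_pow]
      exact h'
    let J : Ideal Γ(X, U) :=
      { carrier := {a | a * r = 0}
        add_mem' := fun {a b} ha hb => by
          show (a + b) * r = 0
          rw [add_mul, show a * r = 0 from ha, show b * r = 0 from hb, add_zero]
        zero_mem' := zero_mul r
        smul_mem' := fun a b hb => by
          show (a • b) * r = 0
          rw [smul_eq_mul, mul_assoc, show b * r = 0 from hb, mul_zero] }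
    obtain ⟨s, hs, hsJ⟩ := exists_ne_zero_mem φ hU hV (le_inf_iff.1 hUle).2 J fun z hz hzη hJ => by
      haveI := hfib (genericPoint Y)
      obtain ⟨w, rfl⟩ : z ∈ Set.range (φ.fiberι (genericPoint Y)) := by
        rw [Scheme.Hom.range_fiberι]; exact hzη
      haveI := isIso_stalkMap_fiberι φ w
      haveI : _root_.IsReduced (X.presheaf.stalk (φ.fiberι (genericPoint Y) w)) :=
        isReduced_of_injective (asIso ((φ.fiberι (genericPoint Y)).stalkMap w)).commRingCatIsoToRingEquiv
          (RingEquiv.injective _)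
      have h0 : X.presheaf.germ U _ hz r = 0 :=
        IsNilpotent.eq_zero ⟨N, by rw [← map_pow, hr, map_zero]⟩
      letI := X.presheaf.algebra_section_stalk ⟨_, hz⟩
      haveI := hU.isLocalization_stalk ⟨_, hz⟩
      obtain ⟨m, hm⟩ := (IsLocalization.map_eq_zero_iff (hU.primeIdealOf ⟨_, hz⟩).asIdeal.primeCompl
        (X.presheaf.stalk (φ.fiberι (genericPoint Y) w)) r).1 h0
      exact m.2 (hJ (show (m : Γ(X, U)) * r = 0 from hm))
    letI := (φ.appLE V U (le_inf_iff.1 hUle).2).hom.toAlgebra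
    haveI : Module.Flat Γ(Y, V) Γ(X, U) := φ.flat_appLE hV hU _
    haveI : Module.IsTorsionFree Γ(Y, V) Γ(X, U) := inferInstance
    have hr0 : r = 0 := by
      rcases smul_eq_zero.1 (show s • r = 0 from (Algebra.smul_def s r).trans hsJ) with h | h
      exacts [absurd h hs, h]
    rw [← TopCat.Presheaf.germ_res_apply X.presheaf (homOfLE hUT) x hxU]
    exact (congrArg _ hr0).trans (map_zero _)
  exact isIntegral_of_irreducibleSpace_of_isReduced X

variable [IsIntegral X]

include hfib in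
theorem genericPoint_map : φ (genericPoint X) = genericPoint Y := by
  obtain ⟨ξ, hξ, -⟩ := exists_common_generization φ hfib (genericPoint Y)
  exact ((genericPoint_specializes _).antisymm
    (hξ ▸ (genericPoint_specializes ξ).map φ.continuous)).eq.symm

theorem algebraMap_stalkSpecializes {x z : X} (h : z ⤳ x) (b : X.presheaf.stalk x) :
    algebraMap (X.presheaf.stalk z) X.functionField (X.presheaf.stalkSpecializes h b) =
      algebraMap (X.presheaf.stalk x) X.functionField b := by
  obtain ⟨U, hx, s, rfl⟩ := X.presheaf.exists_germ_eq b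
  rw [← CommRingCat.comp_apply, X.presheaf.germ_stalkSpecializes, algebraMap_germ, algebraMap_germ]

theorem toK_appLE {U : Y.Opens} {W : X.Opens} (e : W ≤ φ ⁻¹ᵁ U)
    (hη : φ (genericPoint X) = genericPoint Y) {x : X} (hx : x ∈ W) (s : Γ(Y, U)) :
    toK x hx ((φ.appLE U W e).hom s) = funMap φ hη (toK (φ x) (e hx) s) := by
  rw [funMap_toK]
  exact toK_fres e x hx _

include hfib in
/-- A cocycle which is trivial on the generic fibre, as rational functions on the charts. -/
theorem exists_rational (c : Cocycle X)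
    (hgen : Nonempty ((Scheme.Modules.pullback (φ.fiberι (genericPoint Y))).obj (c.twist 1) ≅
      Coh.structureModule (φ.fiber (genericPoint Y)))) :
    ∃ f : c.ι → X.functionField,
      (∀ (i j : c.ι) (W : X.Opens) (hi : W ≤ c.D i) (hj : W ≤ c.D j) (z : X) (hz : z ∈ W),
        f i = toK z hz (c.G i j hi hj) * f j) ∧
      ∀ (i : c.ι) (z : X), z ∈ c.D i → φ z = genericPoint Y → IsUnitAt z (f i) := by
  classical
  let F := φ.fiber (genericPoint Y)
  let ι := φ.fiberι (genericPoint Y)
  haveI : IsIntegral F := hfib _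
  obtain ⟨e0⟩ := hgen
  obtain ⟨e1⟩ := c.nonempty_pullback_twist ι 1
  let e : Coh.structureModule F ≅ (c.comap ι).twist 1 := e0.symm ≪≫ e1
  obtain ⟨a, ha⟩ := (c.comap ι).exists_hom_eq e.hom
  have hloc : (⊤ : F.Opens) ≤ (c.comap ι).locus a := (c.comap ι).mem_locus_of_surjective a fun W _ => by
    rw [ha]
    exact ((ConcreteCategory.bijective_of_isIso (e.hom.app W)).2)
  let σ := fun z : F =>
    haveI := isIso_stalkMap_fiberι φ z
    (asIso (ι.stalkMap z)).commRingCatIsoToRingEquiv
  let v : ∀ (z : F) (i : c.ι), ι z ∈ c.D i → X.presheaf.stalk (ι z) := fun z i hz =>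
    (σ z).symm (F.presheaf.germ (⊤ ⊓ ι ⁻¹ᵁ c.D i) z ⟨trivial, hz⟩ (a.1 i))
  have hv : ∀ z i hz, (ι.stalkMap z).hom (v z i hz) =
      F.presheaf.germ (⊤ ⊓ ι ⁻¹ᵁ c.D i) z ⟨trivial, hz⟩ (a.1 i) := fun z i hz => (σ z).apply_symm_apply _
  let f : c.ι → X.functionField := fun i =>
    if h : ι (genericPoint F) ∈ c.D i then algebraMap _ X.functionField (v (genericPoint F) i h) else 1
  have hspec : ∀ (z : F) (i : c.ι) (hz : ι z ∈ c.D i),
      f i = algebraMap _ X.functionField (v z i hz) := by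
    intro z i hz
    have hs : genericPoint F ⤳ z := genericPoint_specializes z
    have hsι := hs.map ι.continuous
    have h0 : ι (genericPoint F) ∈ c.D i := hsι.mem_open (c.D i).2 hz
    simp only [f, dif_pos h0]
    rw [← algebraMap_stalkSpecializes hsι (v z i hz)]
    congr 1
    apply (σ (genericPoint F)).injective
    show (ι.stalkMap _).hom _ = (ι.stalkMap _).hom _
    rw [hv (genericPoint F) i h0, ← CommRingCat.comp_apply, Scheme.Hom.stalkSpecializes_stalkMap _ _ _ hs,
      CommRingCat.comp_apply, hv z i hz, ← CommRingCat.comp_apply, TopCat.Presheaf.germ_stalkSpecializes]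
  refine ⟨f, fun i j W hi hj z hz => ?_, fun i z hz hzη => ?_⟩
  · have hξW : ι (genericPoint F) ∈ W := by
      have hW : genericPoint X ∈ W := ((genericPoint_spec X).mem_open_set_iff W.2).mpr ⟨z, trivial, hz⟩
      obtain ⟨ζ, hζ, hgen'⟩ := exists_common_generization φ hfib (genericPoint Y)
      have hsp : genericPoint X ⤳ ι (genericPoint F) := genericPoint_specializes _
      have hsp' : ι (genericPoint F) ⤳ genericPoint X := by
        obtain ⟨w, hw⟩ : genericPoint X ∈ Set.range ι := by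
          rw [Scheme.Hom.range_fiberι]; exact genericPoint_map φ hfib
        rw [← hw]
        exact (genericPoint_specializes w).map ι.continuous
      rwa [(hsp'.antisymm hsp).eq]
    rw [InvExt.toK_congr hz hξW, ← algebraMap_germ hξW, hspec _ i (hi hξW), hspec _ j (hj hξW), ← map_mul]
    congr 1
    apply (σ (genericPoint F)).injective
    show (ι.stalkMap _).hom _ = (ι.stalkMap _).hom _
    rw [map_mul, hv (genericPoint F) i (hi hξW), hv (genericPoint F) j (hj hξW), ← CommRingCat.comp_apply (X.presheaf.germ W _ hξW), Scheme.Hom.germ_stalkMap,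
      CommRingCat.comp_apply]
    have hspec2 := (c.comap ι).sect_spec a i j (W := ι ⁻¹ᵁ W)
      (le_inf le_top (ι.preimage_mono hi)) (le_inf le_top (ι.preimage_mono hj))
    rw [pow_one, ← c.appLE_G ι i j hi hj le_rfl, ← Scheme.Hom.app_eq_appLE] at hspec2
    have := congrArg (F.presheaf.germ (ι ⁻¹ᵁ W) (genericPoint F) hξW) hspec2
    rw [map_mul] at this
    exact (TopCat.Presheaf.germ_res_apply _ _ _ _ _).symm.trans
      (this.trans (congrArg (_ * ·) (TopCat.Presheaf.germ_res_apply _ _ _ _ _)))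
  · obtain ⟨w, rfl⟩ : z ∈ Set.range ι := by rw [Scheme.Hom.range_fiberι]; exact hzη
    rw [hspec w i hz]
    refine InvExt.isUnitAt_of_stalk (u := v w i hz) ?_ rfl
    exact ((Ample.Cocycle.mem_locus_iff_isUnit (c.comap ι) a (i := i) (p := w) hz).1
      (hloc trivial)).map (σ w).symm

variable [IsLocallyNoetherian Y] (hY : ∀ y : Y, IsIntegrallyClosed (Y.presheaf.stalk y))

include hfib hY in
/-- At every point the trivialisation is a function from the base up to a unit. -/
theorem exists_base_factor (hη : φ (genericPoint X) = genericPoint Y) {D : X.Opens} {f : X.functionField}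
    (hf : ∀ z : X, z ∈ D → φ z = genericPoint Y → IsUnitAt z f) {x : X} (hx : x ∈ D) :
    ∃ a : Y.functionField, a ≠ 0 ∧ IsUnitAt x (f * (funMap φ hη a)⁻¹) := by
  obtain ⟨_, ⟨V, hV, rfl⟩, hxV, -⟩ :=
    Y.isBasis_affineOpens.exists_subset_of_mem_open (Set.mem_univ (φ x)) isOpen_univ
  obtain ⟨U, hU, hxU, hUle⟩ := exists_isAffineOpen_mem_and_subset (x := x) (U := D ⊓ φ ⁻¹ᵁ V) ⟨hx, hxV⟩
  haveI : Nonempty U := ⟨⟨x, hxU⟩⟩
  haveI : Nonempty V := ⟨⟨φ x, hxV⟩⟩
  haveI := functionField_isFractionRing_of_isAffineOpen X U hU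
  have hclear : ∀ g : X.functionField, (∀ z : X, z ∈ D → φ z = genericPoint Y → IsUnitAt z g) →
      ∃ (s : Γ(Y, V)) (r : Γ(X, U)), s ≠ 0 ∧ funMap φ hη (toK (φ x) hxV s) * g = toK x hxU r := by
    intro g hg
    let J : Ideal Γ(X, U) :=
      { carrier := {b | ∃ r : Γ(X, U), toK x hxU b * g = toK x hxU r}
        add_mem' := by
          rintro a b ⟨r, hr⟩ ⟨r', hr'⟩
          exact ⟨r + r', by
            show toK x hxU (a + b) * g = _
            rw [toK_add, toK_add, add_mul, hr, hr']⟩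
        zero_mem' := ⟨0, by show toK x hxU (0 : Γ(X, U)) * g = _; rw [toK_zero, zero_mul]⟩
        smul_mem' := by
          rintro a b ⟨r, hr⟩
          exact ⟨a * r, by
            show toK x hxU (a * b) * g = _
            rw [toK_mul, toK_mul, mul_assoc, hr]⟩ }
    obtain ⟨s, hs, r, hr⟩ := exists_ne_zero_mem φ hU hV (le_inf_iff.1 hUle).2 J fun z hz hzη hJ => by
      letI := X.presheaf.algebra_section_stalk ⟨z, hz⟩
      haveI := hU.isLocalization_stalk ⟨z, hz⟩
      obtain ⟨u, hu⟩ := isUnitAt_iff.1 (hg z ((le_inf_iff.1 hUle).1 hz) hzη)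
      obtain ⟨⟨r, m⟩, hm⟩ := IsLocalization.surj (hU.primeIdealOf ⟨z, hz⟩).asIdeal.primeCompl (u : X.presheaf.stalk z)
      refine m.2 (hJ ⟨r, ?_⟩)
      rw [← hu, InvExt.toK_congr hxU hz, InvExt.toK_congr hxU hz, ← algebraMap_germ hz, ← algebraMap_germ hz,
        ← map_mul, mul_comm]
      exact congrArg _ hm
    exact ⟨s, r, hs, by rw [← toK_appLE φ (le_inf_iff.1 hUle).2 hη hxU]; exact hr⟩
  obtain ⟨s, r, hs, hr⟩ := hclear f hf
  obtain ⟨t, q, ht, hq⟩ := hclear f⁻¹ fun z hz hzη => (hf z hz hzη).inv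
  have hf0 : f ≠ 0 := by
    obtain ⟨ζ, hζ, hζx⟩ := exists_common_generization φ hfib (genericPoint Y)
    have hξD : genericPoint X ∈ D := ((genericPoint_spec X).mem_open_set_iff D.2).mpr ⟨x, trivial, hx⟩
    exact (hf _ hξD hη).ne_zero
  letI := (φ.stalkMap x).hom.toAlgebra
  let A := Y.presheaf.stalk (φ x)
  let B := X.presheaf.stalk x
  haveI : Module.Flat A B := Flat.stalkMap φ x
  haveI : IsLocalHom (algebraMap A B) := φ.toLRSHom.prop x
  haveI : IsIntegrallyClosed A := hY (φ x)
  have hst : Y.presheaf.germ V (φ x) hxV (s * t) ≠ (0 : A) := by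
    intro h0
    have h1 := congrArg (algebraMap A Y.functionField) h0
    rw [algebraMap_germ, map_zero] at h1
    exact mul_ne_zero hs ht (toK_injective (φ x) hxV (h1.trans (toK_zero _).symm))
  have hprod : X.presheaf.germ U x hxU r * X.presheaf.germ U x hxU q =
      algebraMap A B (Y.presheaf.germ V (φ x) hxV (s * t)) := by
    refine IsFractionRing.injective B X.functionField ?_
    show _ = algebraMap B X.functionField ((φ.stalkMap x).hom _)
    rw [map_mul, algebraMap_germ, algebraMap_germ, ← funMap_algebraMap φ hη, algebraMap_germ, toK_mul, map_mul,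
      ← hr, ← hq]
    field_simp
  obtain ⟨a, ha⟩ := exists_associated_algebraMap (fun p _ _ => isDomain_residue_tensor φ hfib x p) hst hprod
  have hs' : funMap φ hη (toK (φ x) hxV s) ≠ 0 := (map_ne_zero _).2 fun h0 =>
    hs (toK_injective (φ x) hxV (h0.trans (toK_zero _).symm))
  have hr' : toK x hxU r ≠ 0 := hr ▸ mul_ne_zero hs' hf0
  obtain ⟨u, hu⟩ := ha
  have hu' : funMap φ hη (algebraMap A Y.functionField a) * algebraMap B X.functionField u = toK x hxU r := by
    rw [funMap_algebraMap, ← map_mul, ← algebraMap_germ hxU]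
    exact congrArg _ hu
  have ha0 : algebraMap A Y.functionField a ≠ 0 := fun h0 => hr' (by rw [← hu', h0, map_zero, zero_mul])
  refine ⟨algebraMap A Y.functionField a / toK (φ x) hxV s, div_ne_zero ha0
    (fun h0 => hs' (by rw [h0, map_zero])), isUnitAt_iff.2 ⟨u, ?_⟩⟩
  rw [map_div₀]
  have ha0' : funMap φ hη (algebraMap A Y.functionField a) ≠ 0 := (map_ne_zero _).2 ha0
  field_simp
  linear_combination hu' - hr

include hfib hY in
/-- **Main theorem.** -/
theorem exists_iso_pullback
    (hopen : ∀ W : Set X, IsOpen W → φ ⁻¹' (φ '' W) = W → IsOpen (φ '' W))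
    (L : X.Modules) (hL : PicF.IsInvertible L)
    (hgen : Nonempty ((Scheme.Modules.pullback (φ.fiberι (genericPoint Y))).obj L ≅
      Coh.structureModule (φ.fiber (genericPoint Y)))) :
    ∃ N : Y.Modules, PicF.IsInvertible N ∧ Nonempty (L ≅ (Scheme.Modules.pullback φ).obj N) := by
  classical
  obtain ⟨c, ⟨eL⟩⟩ := Ample.exists_cocycle hL
  obtain ⟨f, hf, hfη⟩ := exists_rational φ hfib c
    (hgen.map fun e => (Scheme.Modules.pullback _).mapIso eL.symm ≪≫ e)
  have hη := genericPoint_map φ hfib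
  let Wset : Y.functionField → Set X := fun a =>
    {z | ∃ i, z ∈ c.D i ∧ IsUnitAt z (f i * (funMap φ hη a)⁻¹)}
  have hindep : ∀ (a : Y.functionField) {z : X}, z ∈ Wset a → ∀ i, z ∈ c.D i →
      IsUnitAt z (f i * (funMap φ hη a)⁻¹) := by
    rintro a z ⟨j, hj, hu⟩ i hi
    rw [hf i j (c.D i ⊓ c.D j) inf_le_left inf_le_right z ⟨hi, hj⟩, mul_assoc]
    exact (isUnitAt_of_isUnit _ (c.isUnit_G i j _ _)).mul hu
  have hWopen : ∀ a, IsOpen (Wset a) := fun a => by
    rw [show Wset a = ⋃ i, (c.D i : Set X) ∩ {z | IsUnitAt z (f i * (funMap φ hη a)⁻¹)} from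
      Set.ext fun z => by simp [Wset]]
    exact isOpen_iUnion fun i => (c.D i).2.inter (isOpen_isUnitAt _)
  have hex : ∀ x : X, ∃ a, a ≠ 0 ∧ x ∈ Wset a := fun x => by
    obtain ⟨i, hi⟩ := c.exists_mem x
    obtain ⟨a, h1, h2⟩ := exists_base_factor φ hfib hY hη (fun z hz => hfη i z hz) hi
    exact ⟨a, h1, ⟨i, hi, h2⟩⟩
  choose a ha0 haW using hex
  -- one witness over a point serves all points over it
  have hratio : ∀ {b b' : Y.functionField} {z : X}, z ∈ Wset b → z ∈ Wset b' → IsUnitAt (φ z) (b / b') := by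
    intro b b' z hz hz'
    obtain ⟨i, hi, hu⟩ := hz
    have hu' := hindep b' hz' i hi
    refine isUnitAt_of_funMap φ hη ?_
    have h := hu'.mul hu.inv
    have hf0 : f i ≠ 0 := fun h0 => hu.ne_zero (by rw [h0, zero_mul])
    rw [show funMap φ hη (b / b') = f i * (funMap φ hη b')⁻¹ * (f i * (funMap φ hη b)⁻¹)⁻¹ by
      rw [map_div₀, mul_inv, inv_inv]; field_simp]
    exact h
  have hsat : ∀ (b : Y.functionField) {z z' : X}, z ∈ Wset b → φ z' = φ z → z' ∈ Wset b := by
    intro b z z' hz he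
    obtain ⟨ζ, hζ, hgenζ⟩ := exists_common_generization φ hfib (φ z)
    have h1 : ζ ∈ Wset b := (hgenζ z rfl).mem_open (hWopen b) hz
    have h2 : ζ ∈ Wset (a z') := (hgenζ z' he).mem_open (hWopen _) (haW z')
    have hr := hratio h2 h1
    rw [hζ, ← he] at hr
    obtain ⟨i, hi⟩ := c.exists_mem z'
    refine ⟨i, hi, ?_⟩
    have := (hindep _ (haW z') i hi).mul (isUnitAt_funMap φ hη hr)
    have hne : funMap φ hη (a z') ≠ 0 := (map_ne_zero _).2 (ha0 z')
    rw [show f i * (funMap φ hη b)⁻¹ = f i * (funMap φ hη (a z'))⁻¹ * funMap φ hη (a z' / b) by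
      rw [map_div₀]; field_simp]
    exact this
  let V : X → Y.Opens := fun x => ⟨φ '' Wset (a x), hopen _ (hWopen _) (Set.Subset.antisymm
    (fun z ⟨w, hw, he⟩ => hsat _ hw he.symm) (Set.subset_preimage_image _ _))⟩
  have hVW : ∀ x {z : X}, φ z ∈ V x → z ∈ Wset (a x) := fun x z ⟨w, hw, he⟩ => hsat _ hw he.symm
  have hηV : ∀ x, genericPoint Y ∈ V x := fun x =>
    ((genericPoint_spec Y).mem_open_set_iff (V x).2).mpr ⟨φ x, trivial, x, haW x, rfl⟩
  have hVtop : iSup V = ⊤ := top_le_iff.1 fun y _ => by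
    obtain ⟨x, rfl⟩ := surjective_of_fibres φ hfib y
    exact Opens.mem_iSup.2 ⟨x, x, haW x, rfl⟩
  have hu : ∀ j k : X, ∀ y ∈ V j ⊓ V k, IsUnitAt y (a k / a j) := fun j k y hy => by
    obtain ⟨z, rfl⟩ := surjective_of_fibres φ hfib y
    exact hratio (hVW k hy.2) (hVW j hy.1)
  choose η hηu hηK using fun j k : X =>
    InvExt.exists_unit_section (V := V j ⊓ V k) ⟨hηV j, hηV k⟩ (hu j k)
  have htoKη : ∀ j k (W : Y.Opens) (hW : W ≤ V j ⊓ V k) (y : Y) (hy : y ∈ W),
      toK y hy (res hW (η j k)) = a k / a j := fun j k W hW y hy =>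
    (toK_fres hW y hy _).trans ((InvExt.toK_congr _ _ _).trans (hηK j k))
  have hbot : ∀ {Z : Scheme.{u}} (W : Z.Opens), (W : Set Z) = ∅ → ∀ p q : Γ(Z, W), p = q := by
    intro Z W hW p q
    haveI : Subsingleton Γ(Z, W) := by
      rw [show W = ⊥ from Opens.ext hW]; infer_instance
    exact Subsingleton.elim p q
  have hcoc : PicCoc26.IsCoc η := by
    intro i j k W hi hj hk
    rcases (W : Set Y).eq_empty_or_nonempty with h | ⟨y, hy⟩
    · exact hbot W h _ _
    · refine toK_injective y hy ?_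
      rw [toK_mul, htoKη, htoKη, htoKη]
      field_simp [ha0 i, ha0 j]
  have h1 : ∀ i, η i i = 1 := fun i => by
    refine toK_injective _ (show genericPoint Y ∈ V i ⊓ V i from ⟨hηV i, hηV i⟩) ?_
    rw [hηK, div_self (ha0 i)]
    exact (toK_one _).symm
  let d := PicCoc26.mkCoc hVtop η hcoc h1
  refine ⟨d.twist 1, d.isInvertible_twist 1, ?_⟩
  -- the sections generating `L` over the preimages
  have hcomp : ∀ (j : X) (i : c.ι), ∃ s : Γ(X, φ ⁻¹ᵁ V j ⊓ c.D i), IsUnit s ∧
      ∀ (z : X) (hz : z ∈ φ ⁻¹ᵁ V j ⊓ c.D i), toK z hz s = f i * (funMap φ hη (a j))⁻¹ := by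
    intro j i
    rcases ((φ ⁻¹ᵁ V j ⊓ c.D i : X.Opens) : Set X).eq_empty_or_nonempty with h | ⟨z, hz⟩
    · exact ⟨1, isUnit_one, fun z hz => absurd (h ▸ hz : z ∈ (∅ : Set X)) (Set.notMem_empty z)⟩
    · obtain ⟨s, hs, hsK⟩ := InvExt.exists_unit_section hz fun w hw => hindep _ (hVW j hw.1) i hw.2
      exact ⟨s, hs, fun w hw => (InvExt.toK_congr _ _ _).trans hsK⟩
  choose sc hscu hscK using hcomp
  let sj : ∀ j : X, c.sect 1 (φ ⁻¹ᵁ V j) := fun j => ⟨sc j, fun i i' W hi hi' => by
    rcases (W : Set X).eq_empty_or_nonempty with h | ⟨z, hz⟩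
    · exact hbot W h _ _
    · refine toK_injective z hz ?_
      haveI : Nonempty W := ⟨⟨z, hz⟩⟩
      rw [pow_one, toK_mul]
      erw [toK_fres hi z hz, toK_fres hi' z hz]
      rw [hscK, hscK, hf i i' W (hi.trans inf_le_right) (hi'.trans inf_le_right) z hz, mul_assoc]⟩
  have hgen' : ∀ j, IsGen (c.twist 1) (φ ⁻¹ᵁ V j) (sj j) := fun j => by
    refine InvExt.isGen_of_cover (fun i => φ ⁻¹ᵁ V j ⊓ c.D i) (fun i => inf_le_left)
      (c.iSup_inf_D _) fun i => ?_
    have e : mres (c.twist 1) (inf_le_left : φ ⁻¹ᵁ V j ⊓ c.D i ≤ φ ⁻¹ᵁ V j) (sj j) =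
        (sc j i • c.base 1 i (inf_le_right : φ ⁻¹ᵁ V j ⊓ c.D i ≤ c.D i) :
          c.sect 1 (φ ⁻¹ᵁ V j ⊓ c.D i)) := by
      rw [c.mres_twist]
      refine c.sect_ext_of_le inf_le_right ?_
      rw [Cocycle.sectRes_apply, Cocycle.smul_apply, Cocycle.base_self, mul_one]
    refine Eq.subst (motive := fun t => IsGen (c.twist 1) (φ ⁻¹ᵁ V j ⊓ c.D i) t) e.symm ?_
    exact (c.isGen_base 1 i inf_le_right).smul_unit (u := sc j i) (hscu j i)
  have hm : (d.comap φ).IsFamily 1 (M := c.twist 1) (fun j => sj j) := by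
    intro j k W hj hk
    rw [c.mres_twist, c.mres_twist]
    refine c.sect_ext fun i => ?_
    rw [Cocycle.smul_apply, Cocycle.sectRes_apply, Cocycle.sectRes_apply, pow_one]
    rcases ((W ⊓ c.D i : X.Opens) : Set X).eq_empty_or_nonempty with h | ⟨z, hz⟩
    · exact hbot _ h _ _
    · refine toK_injective z hz ?_
      haveI : Nonempty ↥(W ⊓ c.D i) := ⟨⟨z, hz⟩⟩
      rw [toK_mul]
      rw [d.comap_G]
      erw [toK_fres (inf_le_inf_right _ hk) z hz, toK_fres (inf_le_left : W ⊓ c.D i ≤ W) z hz,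
        toK_fres (inf_le_inf_right _ hj) z hz]
      rw [hscK, hscK, toK_appLE φ _ hη hz.1,
        show toK (φ z) _ (d.g j k) = a j / a k from
          htoKη k j (V j ⊓ V k) (le_inf inf_le_right inf_le_left) (φ z) ⟨hj hz.1, hk hz.1⟩, map_div₀]
      have h0 : funMap φ hη (a j) ≠ 0 := (map_ne_zero _).2 (ha0 j)
      field_simp
  haveI := (d.comap φ).isIso_homOfFamily hm hgen'
  obtain ⟨e⟩ := d.nonempty_pullback_twist φ 1
  exact ⟨eL ≪≫ (asIso ((d.comap φ).homOfFamily hm)).symm ≪≫ e.symm⟩

end GrothLib.PicPull
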